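import Groth.Agent.H1LCZ.QCoh
import Groth.Agent.KFlatLib.Scheme.RpushQCoh
import Groth.Agent.KFlatLib.Scheme.ProjLocFree
import Groth.Agent.KFlatLib.Scheme.ProjFormula
import Groth.Agent.KFlatLib.Scheme.QCohD
import Groth.Agent.S11327
import Groth.Agent.TriCat.RPlus
import Groth.Prelude.Def_CohB1
import Groth.Prelude.Def_DCoh2
import Mathlib.Algebra.Homology.DerivedCategory.ShortExact

/-!
# Sections with supports of bounded below complexes of injectives
-/

set_option autoImplicit false
set_option linter.style.haveILetI false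
set_option backward.isDefEq.respectTransparency false
set_option backward.isDefEq.respectTransparency.types false
set_option maxHeartbeats 1000000

universe u

open CategoryTheory CategoryTheory.Limits AlgebraicGeometry TopologicalSpace Pretriangulated

attribute [local instance] HasDerivedCategory.standard

noncomputable section

namespace Groth.Agent.RgammaQ7

open Groth.Agent.KFlatLib

variable {X : Scheme.{u}} (U : X.Opens)

/-- The termwise short complex `Γ_Z J → J → j_* (J|U)`. -/
def gammaSC (J : CochainComplex X.Modules ℤ) : ShortComplex (CochainComplex X.Modules ℤ) :=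
  ShortComplex.mk
    ((NatTrans.mapHomologicalComplex (H1LCZ.ιGammaZ U.ι) (ComplexShape.up ℤ)).app J ≫
      (Functor.mapHomologicalComplexIdIso X.Modules (ComplexShape.up ℤ)).hom.app J)
    ((Functor.mapHomologicalComplexIdIso X.Modules (ComplexShape.up ℤ)).inv.app J ≫
      (NatTrans.mapHomologicalComplex (Scheme.Modules.restrictAdjunction U.ι).unit (ComplexShape.up ℤ)).app J)
    (HomologicalComplex.hom_ext _ _ fun n => by
      simp only [HomologicalComplex.comp_f, NatTrans.mapHomologicalComplex_app_f, Category.assoc,
        Iso.hom_inv_id_app_assoc, HomologicalComplex.zero_f]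
      exact H1LCZ.wGammaZ U.ι (J.X n))

/-- It is exact on injective terms. -/
theorem shortExact_gammaSC (J : CochainComplex X.Modules ℤ) (hJ : ∀ n, Injective (J.X n)) :
    (gammaSC U J).ShortExact := by
  refine HomologicalComplex.shortExact_of_degreewise_shortExact _ fun n => ?_
  have e : (gammaSC U J).map (HomologicalComplex.eval X.Modules (ComplexShape.up ℤ) n) ≅
      ShortComplex.mk ((H1LCZ.ιGammaZ U.ι).app (J.X n)) ((Scheme.Modules.restrictAdjunction U.ι).unit.app (J.X n))
        (H1LCZ.wGammaZ U.ι (J.X n)) :=
    ShortComplex.isoMk (Iso.refl _) (Iso.refl _) (Iso.refl _)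
      (by simp [gammaSC]; try rfl) (by simp [gammaSC]; try rfl)
  refine ShortComplex.shortExact_of_iso e.symm ?_
  exact
    { exact := ShortComplex.exact_of_f_is_kernel _ (H1LCZ.hkerGammaZ U.ι (J.X n))
      mono_f := inferInstanceAs (Mono (kernel.ι ((Scheme.Modules.restrictAdjunction U.ι).unit.app (J.X n))))
      epi_g := H1LCZ.epi_unit_of_injectiveMod U.ι _ (hJ n) }

/-- Sections with support vanish at points of the open. -/
theorem isZero_stalk_gammaZ (M : X.Modules) (x : X) (hx : x ∈ U) :
    IsZero ((DerSch.stalkFunctor X x).obj ((DCoh.gammaZ U.ι).obj M)) := by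
  let u := (Scheme.Modules.restrictAdjunction U.ι).unit.app M
  haveI : IsIso ((Scheme.Modules.restrictFunctor U.ι).map u) := by
    have h := (Scheme.Modules.restrictAdjunction U.ι).left_triangle_components M
    exact IsIso.of_isIso_fac_right h
  haveI : IsIso ((DerSch.stalkFunctor X x).map u) := isIso_stalk_of_restrict u hx ‹_›
  haveI : (DerSch.stalkFunctor X x).PreservesHomology :=
    Functor.preservesHomology_of_map_exact _ fun S hS => (exact_iff_stalk S).1 hS x
  haveI : Mono ((DerSch.stalkFunctor X x).map (kernel.ι u)) := inferInstance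
  refine IsZero.of_mono_eq_zero ((DerSch.stalkFunctor X x).map (kernel.ι u)) ?_
  rw [← cancel_mono ((DerSch.stalkFunctor X x).map u), zero_comp, ← Functor.map_comp, kernel.condition,
    Functor.map_zero]

/-- The two properties of the cohomology. -/
theorem isQCohD_supported [QuasiCompact U.ι] (J : CochainComplex X.Modules ℤ) (hJ : ∀ n, Injective (J.X n))
    (a : ℤ) [J.IsStrictlyGE a] (hq : DCoh.IsQCohD (DerivedCategory.Q.obj J)) :
    DCoh.IsQCohD (DerivedCategory.Q.obj (((DCoh.gammaZ U.ι).mapHomologicalComplex (ComplexShape.up ℤ)).obj J)) ∧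
      ∀ i : ℤ, CohB1.support (DCoh.HD (DerivedCategory.Q.obj
        (((DCoh.gammaZ U.ι).mapHomologicalComplex (ComplexShape.up ℤ)).obj J)) i) ⊆ (U : Set X)ᶜ := by
  refine ⟨?_, fun i x hx hxU => ?_⟩
  · haveI : DCoh.HasRpush U.ι := hasRpush_scheme U.ι
    haveI : HasInjectiveResolutions (U : Scheme.{u}).Modules := inferInstance
    let R := Scheme.Modules.restrictFunctor U.ι
    let JU := (R.mapHomologicalComplex (ComplexShape.up ℤ)).obj J
    haveI : ∀ n, Injective (JU.X n) := fun n => S11327.result X U (J.X n) (hJ n)
    haveI : CochainComplex.IsStrictlyGE JU a := inferInstance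
    haveI : CochainComplex.IsKInjective JU := CochainComplex.isKInjective_of_injective _ a
    let eU : DerivedCategory.Q.obj JU ≅ (DCoh.restrictD U.ι).obj (DerivedCategory.Q.obj J) :=
      (R.mapDerivedCategoryFactors.app J).symm
    have hqU : DCoh.IsQCohD (DerivedCategory.Q.obj JU) :=
      isQCohD_of_iso eU.symm (isQCohD_restrictD U.ι hq)
    haveI : (DerivedCategory.Q.obj JU).IsGE a := inferInstance
    obtain ⟨e⟩ := nonempty_rpush_iso_of_kInjective U.ι (I := JU) (Iso.refl _)
    have h3 : DCoh.IsQCohD (DerivedCategory.Q.obj (gammaSC U J).X₃) := by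
      refine isQCohD_of_iso ?_ (isQCohD_rpush_of_isGE U.ι (DerivedCategory.Q.obj JU) a hqU)
      exact e ≪≫ DerivedCategory.Q.mapIso
        ((Functor.mapHomologicalComplexCompIso (Iso.refl (R ⋙ Scheme.Modules.pushforward U.ι))
          (ComplexShape.up ℤ)).app J)
    exact isQCohD_obj₁ (DerivedCategory.triangleOfSES_distinguished (shortExact_gammaSC U J hJ)) hq h3
  · let G := ((DCoh.gammaZ U.ι).mapHomologicalComplex (ComplexShape.up ℤ)).obj J
    let st := DerSch.stalkFunctor X x
    haveI : st.PreservesHomology :=
      Functor.preservesHomology_of_map_exact _ fun S hS => (exact_iff_stalk S).1 hS x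
    have h : IsZero (st.obj (G.homology i)) :=
      IsZero.of_iso (ShortComplex.isZero_homology_of_isZero_X₂ _ (isZero_stalk_gammaZ U (J.X i) x hxU))
        ((G.sc i).mapHomologyIso st).symm
    have h' : IsZero (st.obj (DCoh.HD (DerivedCategory.Q.obj G) i)) :=
      h.of_iso (st.mapIso ((DerivedCategory.homologyFunctorFactors _ i).app G))
    exact hx (ModuleCat.subsingleton_of_isZero h')

end Groth.Agent.RgammaQ7
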